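import Mathlib

/-!
# Quasi-homeomorphisms and the inverse image of sheaves
-/

universe v u

open CategoryTheory Limits TopologicalSpace Opposite

noncomputable section

attribute [local instance] Classical.propDecidable

namespace Groth.Agent.QHomeoSh

variable {X₀ X : TopCat.{u}} (f : X₀ ⟶ X)

theorem preimage_le_iff (h : Function.Bijective (fun U : Opens X => (Opens.map f).obj U)) (U V : Opens X) :
    (Opens.map f).obj U ≤ (Opens.map f).obj V ↔ U ≤ V := by
  refine ⟨fun hle => ?_, fun hle => ((Opens.map f).map (homOfLE hle)).le⟩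
  have : (Opens.map f).obj (U ⊔ V) = (Opens.map f).obj V := by
    refine le_antisymm (fun x hx => ?_) (fun x hx => Or.inr hx)
    rcases hx with hx | hx
    exacts [hle hx, hx]
  exact sup_eq_right.1 (h.1 this)

theorem isEquivalence_map (h : Function.Bijective (fun U : Opens X => (Opens.map f).obj U)) :
    (Opens.map f).IsEquivalence where
  faithful := ⟨fun _ => Subsingleton.elim _ _⟩
  full := ⟨fun {U V} i => ⟨homOfLE ((preimage_le_iff f h U V).1 i.le), Subsingleton.elim _ _⟩⟩
  essSurj := ⟨fun W => by obtain ⟨U, hU⟩ := h.2 W; exact ⟨U, ⟨eqToIso hU⟩⟩⟩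

theorem isDenseSubsite (h : Function.Bijective (fun U : Opens X => (Opens.map f).obj U)) :
    (Opens.map f).IsDenseSubsite (Opens.grothendieckTopology X) (Opens.grothendieckTopology X₀) := by
  haveI := isEquivalence_map f h
  refine { functorPushforward_mem_iff := ?_ }
  intro U S
  refine ⟨fun hS x hx => ?_, fun hS => (coverPreserving_opens_map f).cover_preserve hS⟩
  -- the union of the opens of `S` has the same preimage as `U`
  let W : Opens X := sSup {V : Opens X | ∃ i : V ⟶ U, S i}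
  have hW : (Opens.map f).obj W = (Opens.map f).obj U := by
    refine le_antisymm ((Opens.map f).map (homOfLE ?_)).le fun y hy => ?_
    · exact sSup_le fun V ⟨i, _⟩ => i.le
    · obtain ⟨O, j, ⟨V, i, k, hi, -⟩, hyO⟩ := hS y hy
      exact Opens.mem_sSup.2 ⟨V, ⟨i, hi⟩, k.le hyO⟩
  obtain ⟨V, ⟨i, hi⟩, hxV⟩ := Opens.mem_sSup.1 (show x ∈ W from (h.1 hW).symm ▸ hx)
  exact ⟨V, i, hi, hxV⟩

variable {C : Type (u + 1)} [Category.{u} C]

theorem isEquivalence_pushforward [HasLimits C]
    (h : Function.Bijective (fun U : Opens X => (Opens.map f).obj U)) :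
    (TopCat.Sheaf.pushforward C f).IsEquivalence := by
  haveI := isDenseSubsite f h
  exact inferInstanceAs ((Opens.map f).sheafPushforwardContinuous C (Opens.grothendieckTopology X)
    (Opens.grothendieckTopology X₀)).IsEquivalence

/-- If the direct image is essentially surjective then the preimage of opens is injective. -/
theorem preimage_injective [HasTerminal C] [(TopCat.Sheaf.pushforward C f).EssSurj]
    {A : C} {g₁ g₂ : A ⟶ A} (hg : g₁ ≠ g₂) :
    Function.Injective (fun U : Opens X => (Opens.map f).obj U) := by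
  have key : ∀ U V : Opens X, U ≤ V → (Opens.map f).obj U = (Opens.map f).obj V → V ≤ U := by
    intro U V hUV heq x hxV
    by_contra hxU
    let S : TopCat.Sheaf C X := skyscraperSheaf x A
    let G := (TopCat.Sheaf.pushforward C f).objPreimage S
    let e : ((TopCat.Sheaf.pushforward C f).obj G).obj ≅ S.obj :=
      (TopCat.Sheaf.forget C X).mapIso ((TopCat.Sheaf.pushforward C f).objObjPreimageIso S)
    haveI : IsIso (G.obj.map ((Opens.map f).map (homOfLE hUV)).op) :=
      ⟨G.obj.map (homOfLE heq.ge).op, by rw [← G.obj.map_comp, ← G.obj.map_id]; rfl,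
        by rw [← G.obj.map_comp, ← G.obj.map_id]; rfl⟩
    haveI : IsIso (((TopCat.Sheaf.pushforward C f).obj G).obj.map (homOfLE hUV).op) := this
    haveI : IsIso (S.obj.map (homOfLE hUV).op) := (NatIso.isIso_map_iff e _).1 inferInstance
    have hT : IsTerminal (S.obj.obj (op U)) := isTerminalSkyscraperSheafObjObjOfNotMem hxU
    have hT' : IsTerminal (S.obj.obj (op V)) := hT.ofIso (asIso (S.obj.map (homOfLE hUV).op)).symm
    have hA : S.obj.obj (op V) = A := if_pos hxV
    exact hg ((hT'.ofIso (eqToIso hA)).hom_ext _ _)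
  intro U V h
  replace h : (Opens.map f).obj U = (Opens.map f).obj V := h
  have hUV : (Opens.map f).obj (U ⊓ V) = (Opens.map f).obj V :=
    le_antisymm (fun x hx => hx.2) fun x hx => ⟨show x ∈ (Opens.map f).obj U from h.symm ▸ hx, hx⟩
  have hVU : (Opens.map f).obj (U ⊓ V) = (Opens.map f).obj U :=
    le_antisymm (fun x hx => hx.1) fun x hx => ⟨hx, show x ∈ (Opens.map f).obj V from h ▸ hx⟩
  exact le_antisymm ((key _ _ inf_le_left hVU).trans inf_le_right) ((key _ _ inf_le_right hUV).trans inf_le_left)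

variable {FC : C → C → Type*} {CC : C → Type u} [∀ A B : C, FunLike (FC A B) (CC A) (CC B)]
  [ConcreteCategory.{u} C FC] [HasColimits C] [HasLimits C] [PreservesFilteredColimits (CategoryTheory.forget C)]

theorem skyscraper_pushforward (y : X₀) (A : C) :
    (TopCat.Sheaf.pushforward C f).obj (skyscraperSheaf y A) = skyscraperSheaf (f y) A := rfl

/-- If the direct image is full then every open is the preimage of an open. -/
theorem preimage_surjective [(TopCat.Sheaf.pushforward C f).Full]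
    {A : C} {g₁ g₂ : A ⟶ A} (a : CC A) (hg : g₁ a ≠ g₂ a) :
    Function.Surjective (fun U : Opens X => (Opens.map f).obj U) := by
  intro W
  refine ⟨sSup {V : Opens X | (Opens.map f).obj V ≤ W}, le_antisymm ?_ ?_⟩
  · intro x hx
    obtain ⟨V, hV, hxV⟩ := Opens.mem_sSup.1 hx
    exact hV hxV
  intro y hy
  suffices ∃ V : Opens X, f y ∈ V ∧ (Opens.map f).obj V ≤ W by
    obtain ⟨V, hyV, hV⟩ := this
    exact Opens.mem_sSup.2 ⟨V, hV, hyV⟩
  by_contra hne
  push_neg at hne
  let S : {c : X₀ // c ∉ W} → CategoryTheory.Sheaf (Opens.grothendieckTopology X₀) C := fun c => skyscraperSheaf c.1 A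
  let G : CategoryTheory.Sheaf (Opens.grothendieckTopology X₀) C := ∏ᶜ S
  let ev : (Opens X₀)ᵒᵖ → CategoryTheory.Sheaf (Opens.grothendieckTopology X₀) C ⥤ C := fun O =>
    sheafToPresheaf (Opens.grothendieckTopology X₀) C ⋙ (evaluation (Opens X₀)ᵒᵖ C).obj O
  haveI : ∀ O, PreservesLimit (Discrete.functor S) (ev O) := fun O => comp_preservesLimit _ _
  have hlim : ∀ O, IsLimit (Fan.mk ((ev O).obj G) fun c => (ev O).map (Pi.π S c)) := fun O =>
    isLimitFanMkObjOfIsLimit (ev O) S _ (productIsProduct S)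
  let t : A ⟶ (ev (op ⊤)).obj G :=
    Fan.IsLimit.lift (hlim (op ⊤)) fun c => eqToHom (if_pos (by exact Opens.mem_top c.1)).symm
  let P : TopCat.Sheaf C X := (TopCat.Sheaf.pushforward C f).obj G
  let Pp : TopCat.Presheaf C X := P.obj
  let ψ : P ⟶ skyscraperSheaf (f y) (Pp.stalk (f y)) := (stalkSkyscraperSheafAdjunction (f y)).unit.app P
  obtain ⟨φ, hφ⟩ := (TopCat.Sheaf.pushforward C f).map_surjective
    (show P ⟶ (TopCat.Sheaf.pushforward C f).obj (skyscraperSheaf y (Pp.stalk (f y))) from ψ)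
  have hψ : ψ.hom.app (op ⊤) = φ.hom.app (op ⊤) :=
    (congrArg (fun m => m.hom.app (op (⊤ : Opens X))) hφ).symm
  let r : op (⊤ : Opens X₀) ⟶ op W := (homOfLE le_top).op
  have hres : (g₁ ≫ t) ≫ G.obj.map r = (g₂ ≫ t) ≫ G.obj.map r :=
    Fan.IsLimit.hom_ext (hlim (op W)) _ _ fun c => (isTerminalSkyscraperSheafObjObjOfNotMem c.2).hom_ext _ _
  haveI : IsIso ((skyscraperPresheaf y (Pp.stalk (f y))).map r) := by
    have e1 : (skyscraperPresheaf y (Pp.stalk (f y))).map r = _ := dif_pos (show y ∈ unop (op W) from hy)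
    rw [e1]
    constructor
    exact ⟨eqToHom (by first | exact (Eq.trans (if_pos (show y ∈ unop (op W) from hy)) (if_pos (Opens.mem_top y)).symm)), eqToHom_trans _ _, eqToHom_trans _ _⟩
  have n := φ.hom.naturality r
  have hφeq : (g₁ ≫ t) ≫ φ.hom.app (op ⊤) = (g₂ ≫ t) ≫ φ.hom.app (op ⊤) :=
    (cancel_mono ((skyscraperPresheaf y (Pp.stalk (f y))).map r)).1
      ((Category.assoc _ _ _).trans ((congrArg ((g₁ ≫ t) ≫ ·) n.symm).trans ((Category.assoc _ _ _).symm.trans
        ((congrArg (· ≫ φ.hom.app (op W)) hres).trans ((Category.assoc _ _ _).trans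
          ((congrArg ((g₂ ≫ t) ≫ ·) n).trans (Category.assoc _ _ _).symm))))))
  have hmem : f y ∈ unop (op (⊤ : Opens X)) := Opens.mem_top _
  let e2 : Pp.stalk (f y) ⟶ (skyscraperPresheaf (f y) (Pp.stalk (f y))).obj (op (⊤ : Opens X)) :=
    eqToHom (if_pos hmem).symm
  have h2 : ψ.hom.app (op ⊤) = Pp.germ ⊤ (f y) (Opens.mem_top _) ≫ e2 := by
    exact (dif_pos hmem).trans (congrArg _ (Category.id_comp _))
  haveI : Mono e2 := ⟨fun {Z} u v h => by
    have key : ∀ w : Z ⟶ Pp.stalk (f y), (w ≫ e2) ≫ eqToHom (if_pos hmem) = w := fun w =>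
      (Category.assoc _ _ _).trans ((congrArg (w ≫ ·) ((eqToHom_trans _ _).trans (eqToHom_refl _ rfl))).trans
        (Category.comp_id _))
    exact (key u).symm.trans ((congrArg (· ≫ eqToHom (if_pos hmem)) h).trans (key v))⟩
  have hgerm : (g₁ ≫ t) ≫ Pp.germ ⊤ (f y) (Opens.mem_top _) = (g₂ ≫ t) ≫ Pp.germ ⊤ (f y) (Opens.mem_top _) := by
    refine (cancel_mono e2).1 ?_
    refine (Category.assoc _ _ _).trans (Eq.trans ?_ (Category.assoc _ _ _).symm)
    exact (congrArg ((g₁ ≫ t) ≫ ·) (h2.symm.trans hψ)).trans (hφeq.trans (congrArg ((g₂ ≫ t) ≫ ·) (hψ.symm.trans h2)))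
  have he := ConcreteCategory.congr_hom hgerm a
  obtain ⟨V, hyV, i, i', heq⟩ := Pp.germ_eq (f y) (Opens.mem_top _) (Opens.mem_top _) ((g₁ ≫ t) a) ((g₂ ≫ t) a)
    ((ConcreteCategory.comp_apply _ _ _).symm.trans (he.trans (ConcreteCategory.comp_apply _ _ _)))
  obtain rfl : i' = i := Subsingleton.elim _ _
  obtain ⟨c, hcV, hcW⟩ := SetLike.not_le_iff_exists.1 (hne V hyV)
  let j : op (⊤ : Opens X₀) ⟶ op ((Opens.map f).obj V) := ((Opens.map f).map i').op
  have heq' : G.obj.map j ((g₁ ≫ t) a) = G.obj.map j ((g₂ ≫ t) a) := heq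
  let π := Pi.π S ⟨c, hcW⟩
  have hc' : c ∈ unop (op ((Opens.map f).obj V)) := hcV
  let e : (skyscraperPresheaf c A).obj (op ((Opens.map f).obj V)) ⟶ A := eqToHom (if_pos hc')
  have h0 : t ≫ π.hom.app (op ⊤) = eqToHom (if_pos (Opens.mem_top c)).symm :=
    (hlim (op ⊤)).fac _ ⟨⟨c, hcW⟩⟩
  have h1 : eqToHom (if_pos (Opens.mem_top c)).symm ≫ (skyscraperPresheaf c A).map j ≫ e = 𝟙 A := by
    have e1 : (skyscraperPresheaf c A).map j = _ := dif_pos hc'
    rw [e1]
    exact (congrArg _ (eqToHom_trans _ _)).trans ((eqToHom_trans _ _).trans (eqToHom_refl _ rfl))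
  have hj : t ≫ G.obj.map j ≫ π.hom.app (op ((Opens.map f).obj V)) ≫ e = 𝟙 A := by
    refine (congrArg (t ≫ ·) ((Category.assoc _ _ _).symm.trans ((congrArg (· ≫ e) (π.hom.naturality j)).trans
      (Category.assoc _ _ _)))).trans ?_
    refine (Category.assoc _ _ _).symm.trans ?_
    exact (congrArg (· ≫ (skyscraperPresheaf c A).map j ≫ e) h0).trans h1
  apply hg
  have k : ∀ g : A ⟶ A, (π.hom.app (op ((Opens.map f).obj V)) ≫ e) (G.obj.map j ((g ≫ t) a)) = g a := fun g => by
    have := ConcreteCategory.congr_hom hj (g a)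
    simp only [ConcreteCategory.comp_apply, ConcreteCategory.id_apply] at this ⊢
    exact this
  rw [← k g₁, ← k g₂, heq']

theorem iff_isEquivalence [PreservesLimits (CategoryTheory.forget C)]
    [(CategoryTheory.forget C).ReflectsIsomorphisms]
    {A : C} {g₁ g₂ : A ⟶ A} (a : CC A) (hg : g₁ a ≠ g₂ a) :
    Function.Bijective (fun U : Opens X => (Opens.map f).obj U) ↔ (TopCat.Sheaf.pullback C f).IsEquivalence := by
  constructor
  · intro h
    haveI := isEquivalence_pushforward (C := C) f h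
    exact (TopCat.Sheaf.pullbackPushforwardAdjunction C f).isEquivalence_left_of_isEquivalence_right
  · intro h
    haveI := (TopCat.Sheaf.pullbackPushforwardAdjunction C f).isEquivalence_right_of_isEquivalence_left
    exact ⟨preimage_injective f (C := C) (g₁ := g₁) (g₂ := g₂) fun e => hg (by rw [e]),
      preimage_surjective f a hg⟩

end Groth.Agent.QHomeoSh
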